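import Mathlib
import Groth.Prelude.Def_FEt
import Groth.Agent.SplitCoverLib.Count

/-!
Finite etale covers of constant rank over a discrete scheme with separably closed residue fields are trivial.
-/

set_option autoImplicit false
set_option linter.all false

universe u

open CategoryTheory CategoryTheory.Limits AlgebraicGeometry TopologicalSpace

noncomputable section

namespace Groth.Agent.CurveExt

theorem finrank_eq_card_fibre' {P D : Scheme.{u}} (p : P ⟶ D) [IsFinite p] [Etale p] (d : D)
    [IsSepClosed (D.residueField d)] (t : ↥(Spec (CommRingCat.of ↥(D.residueField d)))) :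
    p.finrank (D.fromSpecResidueField d t) = Nat.card ↥(pullback p (D.fromSpecResidueField d)) :=
  SplitCover.finrank_eq_card_fibre p (Ω := D.residueField d) (D.fromSpecResidueField d) t

theorem card_fibre_eq {P D : Scheme.{u}} (p : P ⟶ D) (d : D) :
    Nat.card ↥(pullback p (D.fromSpecResidueField d)) = Nat.card ↥(p ⁻¹' {d}) :=
  Nat.card_congr (p.fiberHomeo d).toEquiv

theorem finrank_eq_card_preimage {P D : Scheme.{u}} (p : P ⟶ D) [IsFinite p] [Etale p] (d : D)
    [IsSepClosed (D.residueField d)] : p.finrank d = Nat.card ↥(p ⁻¹' {d}) :=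
  ((congrArg p.finrank (Scheme.fromSpecResidueField_apply (X := D) d _).symm).trans
    (finrank_eq_card_fibre' p d (IsLocalRing.closedPoint ↥(D.residueField d)))).trans (card_fibre_eq p d)

theorem exists_over_iso_sigma {P D : Scheme.{u}} (p : P ⟶ D) [IsFinite p] [Etale p] [DiscreteTopology D]
    [DiscreteTopology P] (hsep : ∀ d : D, IsSepClosed (D.residueField d)) (n : ℕ) (hn : ∀ d, p.finrank d = n) :
    ∃ e : (∐ fun _ : Fin n => D) ≅ P, e.hom ≫ p = Sigma.desc fun _ : Fin n => 𝟙 D := by
  classical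
  have hfin : ∀ d : D, Finite ↥(p ⁻¹' {d}) := fun d => (p.finite_preimage_singleton d).to_subtype
  have hc : ∀ d : D, Nat.card ↥(p ⁻¹' {d}) = n := fun d => by
    haveI := hsep d
    rw [← finrank_eq_card_preimage p d, hn]
  have e : ∀ d : D, ↥(p ⁻¹' {d}) ≃ Fin n := fun d => by
    haveI := hfin d
    exact Finite.equivFinOfCardEq (hc d)
  let idx : P → Fin n := fun z => e (p z) ⟨z, rfl⟩
  have hidx : ∀ (d : D) (z : ↥(p ⁻¹' {d})), idx z.1 = e d z := by
    rintro d ⟨z, rfl⟩
    rfl
  let W : Fin n → P.Opens := fun j => ⟨{z | idx z = j}, isOpen_discrete _⟩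
  have hcl : ∀ j, IsClosedImmersion (W j).ι := fun j => IsClosedImmersion.of_isPreimmersion _ (by
    rw [Scheme.Opens.range_ι]; exact isClosed_discrete _)
  have hiso : ∀ j, IsIso ((W j).ι ≫ p) := fun j => by
    haveI := hcl j
    haveI : IsFinite ((W j).ι ≫ p) := inferInstance
    haveI : Etale ((W j).ι ≫ p) := inferInstance
    refine (Scheme.Hom.isIso_iff_finrank_eq _).2 (funext fun d => ?_)
    haveI := hsep d
    rw [finrank_eq_card_preimage, Pi.one_apply, Nat.card_eq_one_iff_unique]
    have hmem : ((e d).symm j).1 ∈ W j := by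
      show idx _ = j
      rw [hidx, Equiv.apply_symm_apply]
    refine ⟨⟨fun a b => ?_⟩, ⟨⟨⟨_, hmem⟩, ?_⟩⟩⟩
    · obtain ⟨⟨a, ha⟩, haf⟩ := a
      obtain ⟨⟨b, hb⟩, hbf⟩ := b
      have ha' : p a = d := haf
      have hb' : p b = d := hbf
      have h1 : e d ⟨a, ha'⟩ = j := (hidx d ⟨a, ha'⟩).symm.trans ha
      have h2 : e d ⟨b, hb'⟩ = j := (hidx d ⟨b, hb'⟩).symm.trans hb
      have h3 := (e d).injective (h1.trans h2.symm)
      exact Subtype.ext (Subtype.ext (congrArg Subtype.val h3 : a = b))
    · exact ((e d).symm j).2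
  haveI := hiso
  let σ : Fin n → (D ⟶ P) := fun j => inv ((W j).ι ≫ p) ≫ (W j).ι
  have hσ : ∀ j, σ j ≫ p = 𝟙 D := fun j => by simp [σ]
  haveI : ∀ j, IsOpenImmersion (σ j) := fun j => inferInstance
  have hr : ∀ j, (σ j).opensRange = W j := fun j => by
    simp only [σ, Scheme.Hom.opensRange_comp_of_isIso, Scheme.Opens.opensRange_ι]
  obtain ⟨hcol⟩ := nonempty_isColimit_cofanMk_of σ (top_le_iff.mp fun z _ => by
      refine Opens.mem_iSup.mpr ⟨idx z, ?_⟩
      rw [hr]
      rfl) (fun i j hij => by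
      refine disjoint_iff_inf_le.mpr fun z hz => ?_
      have h1 : z ∈ W i := hr i ▸ hz.1
      have h2 : z ∈ W j := hr j ▸ hz.2
      exact hij ((show idx z = i from h1).symm.trans (show idx z = j from h2)))
  haveI : IsIso (Sigma.desc σ) := (Cofan.nonempty_isColimit_iff_isIso_sigmaDesc (Cofan.mk _ σ)).mp ⟨hcol⟩
  exact ⟨asIso (Sigma.desc σ), Sigma.hom_ext _ _ fun j => by simp [hσ]⟩

set_option linter.style.haveILetI false in
/-- Finite etale covers of the same constant rank over a discrete scheme with separably closed residue fields. -/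
theorem nonempty_iso_of_discrete {D : Scheme.{u}} [IsLocallyArtinian D]
    (hsep : ∀ d : D, IsSepClosed (D.residueField d)) (A B : FEt.Cat D) (n : ℕ)
    (hA : ∀ d, A.hom.finrank d = n) (hB : ∀ d, B.hom.finrank d = n) : Nonempty (A ≅ B) := by
  haveI : IsLocallyArtinian ((Functor.fromPUnit.{0} D).obj A.right) := ‹IsLocallyArtinian D›
  haveI : IsLocallyArtinian ((Functor.fromPUnit.{0} D).obj B.right) := ‹IsLocallyArtinian D›
  haveI : DiscreteTopology ↥((Functor.fromPUnit.{0} D).obj A.right) := inferInstanceAs (DiscreteTopology D)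
  haveI : IsFinite A.hom := A.prop.1
  haveI : Etale A.hom := A.prop.2
  haveI : IsFinite B.hom := B.prop.1
  haveI : Etale B.hom := B.prop.2
  haveI : IsLocallyArtinian A.left := IsLocallyArtinian.of_locallyQuasiFinite A.hom
  haveI : IsLocallyArtinian B.left := IsLocallyArtinian.of_locallyQuasiFinite B.hom
  haveI : DiscreteTopology ↥((𝟭 Scheme.{u}).obj A.left) := inferInstanceAs (DiscreteTopology A.left)
  haveI : DiscreteTopology ↥((𝟭 Scheme.{u}).obj B.left) := inferInstanceAs (DiscreteTopology B.left)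
  obtain ⟨eA, hA'⟩ := exists_over_iso_sigma A.hom hsep n hA
  obtain ⟨eB, hB'⟩ := exists_over_iso_sigma B.hom hsep n hB
  refine ⟨MorphismProperty.Over.isoMk (eA.symm ≪≫ eB) ?_⟩
  show (eA.inv ≫ eB.hom) ≫ B.hom = A.hom
  rw [Category.assoc]
  exact (congrArg (eA.inv ≫ ·) hB').trans ((congrArg (eA.inv ≫ ·) hA'.symm).trans (Iso.inv_hom_id_assoc eA A.hom))

end Groth.Agent.CurveExt
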