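import Groth.Agent.CurveExtLib.Topo
import Groth.Agent.CurveExtLib.Discrete
import Groth.Agent.S1186
import Groth.Agent.S9383
import Groth.Agent.S0289
import Groth.Agent.SkySumLib.Cohom

/-!
Extending finite etale covers from a connected closed subscheme of a curve over a separably closed field.
-/

set_option autoImplicit false
set_option linter.all false

universe u

open CategoryTheory CategoryTheory.Limits AlgebraicGeometry TopologicalSpace

noncomputable section

namespace Groth.Agent.CurveExt

/-- The trivial cover of degree `n` of `Spec k`. -/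
theorem exists_constCover (k : Type u) [Field k] (n : ℕ) :
    ∃ V : FEt.Cat (Spec (CommRingCat.of k)), ∀ t, V.hom.finrank t = n := by
  let f : k →+* (Fin n → k) := algebraMap k (Fin n → k)
  have hfin : IsFinite (Spec.map (CommRingCat.ofHom f)) := by
    rw [IsFinite.SpecMap_iff, CommRingCat.hom_ofHom, RingHom.finite_algebraMap]
    infer_instance
  have het : Etale (Spec.map (CommRingCat.ofHom f)) := by
    rw [HasRingHomProperty.Spec_iff (P := @Etale), CommRingCat.hom_ofHom, RingHom.etale_algebraMap]
    infer_instance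
  refine ⟨MorphismProperty.Over.mk ⊤ (Spec.map (CommRingCat.ofHom f)) ⟨hfin, het⟩, fun t => ?_⟩
  show Scheme.Hom.finrank (Spec.map (CommRingCat.ofHom (algebraMap k (Fin n → k)))) t = n
  rw [Scheme.Hom.finrank_SpecMap_algebraMap, Module.rankAtStalk_eq_finrank_of_free]
  simp
  rfl

theorem finrank_restrict {X Y : Scheme.{u}} (f : X ⟶ Y) (A : FEt.Cat Y) (n : ℕ) (h : ∀ y, A.hom.finrank y = n) (x : X) :
    ((FEt.restrict f).obj A).hom.finrank x = n := by
  haveI : IsFinite A.hom := A.prop.1
  haveI : Etale A.hom := A.prop.2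
  exact (Scheme.Hom.finrank_pullback_snd A.hom f x).trans (h _)

theorem exists_finrank_eq {X : Scheme.{u}} [ConnectedSpace X] (A : FEt.Cat X) : ∃ n, ∀ x, A.hom.finrank x = n := by
  haveI : IsFinite A.hom := A.prop.1
  haveI : Etale A.hom := A.prop.2
  obtain ⟨x₀⟩ := (inferInstance : Nonempty X)
  exact ⟨A.hom.finrank x₀, fun x => @IsLocallyConstant.apply_eq_of_preconnectedSpace X _ _ inferInstance _ (Scheme.Hom.isLocallyConstant_finrank A.hom) x x₀⟩

theorem main (k : Type u) [Field k] [IsSepClosed k] (Z X : Scheme.{u})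
    (a : Z ⟶ Spec (CommRingCat.of k)) [LocallyOfFiniteType a] (hdim : topologicalKrullDim Z ≤ 1)
    (i : X ⟶ Z) [IsClosedImmersion i] [ConnectedSpace X] (Y : FEt.Cat X) :
    ∃ T : FEt.Cat Z, Nonempty ((FEt.restrict i).obj T ≅ Y) := by
  haveI : IsLocallyNoetherian Z := LocallyOfFiniteType.isLocallyNoetherian a
  let CX : Closeds Z := ⟨Set.range i, i.isClosedEmbedding.isClosed_range⟩
  let CW : Closeds Z := ⟨closure (CX : Set Z)ᶜ, isClosed_closure⟩
  let I : Z.IdealSheafData := Scheme.IdealSheafData.vanishingIdeal CX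
  let J : Z.IdealSheafData := Scheme.IdealSheafData.vanishingIdeal CW
  have hI : (I.support : Set Z) = Set.range i := by
    rw [show I = Scheme.IdealSheafData.vanishingIdeal CX from rfl, Scheme.IdealSheafData.coe_support_vanishingIdeal]
    rfl
  have hJ : (J.support : Set Z) = closure (Set.range i)ᶜ := by
    rw [show J = Scheme.IdealSheafData.vanishingIdeal CW from rfl, Scheme.IdealSheafData.coe_support_vanishingIdeal]
    rfl
  -- reduced structure on X
  have hker : i.ker ≤ I.subschemeι.ker := by
    rw [Scheme.IdealSheafData.ker_subschemeι, show I = Scheme.IdealSheafData.vanishingIdeal CX from rfl,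
      ← Scheme.IdealSheafData.le_support_iff_le_vanishingIdeal]
    intro x hx
    exact i.range_subset_ker_support hx
  let r : I.subscheme ⟶ X := IsClosedImmersion.lift i I.subschemeι hker
  have hr : r ≫ i = I.subschemeι := IsClosedImmersion.lift_fac _ _ _
  haveI : IsClosedImmersion (r ≫ i) := hr ▸ inferInstance
  haveI : IsClosedImmersion r := IsClosedImmersion.of_comp r i
  haveI : Surjective r := ⟨fun x => by
    obtain ⟨z, hz⟩ : i x ∈ Set.range I.subschemeι := by
      rw [Scheme.IdealSheafData.range_subschemeι, hI]; exact ⟨x, rfl⟩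
    exact ⟨z, i.isClosedEmbedding.injective (by rw [← Scheme.Hom.comp_apply, hr, hz])⟩⟩
  haveI : (FEt.restrict r).IsEquivalence := Groth.Agent.S0289.result r
  -- the union
  let K : Z.IdealSheafData := I ⊓ J
  let π := K.subschemeι
  haveI : Surjective π := ⟨fun z => by
    show z ∈ Set.range π
    rw [Scheme.IdealSheafData.range_subschemeι, show K = Scheme.IdealSheafData.vanishingIdeal (CX ⊔ CW) from
      (Scheme.IdealSheafData.vanishingIdeal_sup CX CW).symm, Scheme.IdealSheafData.coe_support_vanishingIdeal]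
    show z ∈ (CX : Set Z) ∪ closure (CX : Set Z)ᶜ
    by_cases h : z ∈ (CX : Set Z)
    · exact Or.inl h
    · exact Or.inr (subset_closure h)⟩
  haveI : (FEt.restrict π).IsEquivalence := Groth.Agent.S0289.result π
  let i' : (I ⊔ J).subscheme ⟶ I.subscheme := Scheme.IdealSheafData.inclusion le_sup_left
  let j' : (I ⊔ J).subscheme ⟶ J.subscheme := Scheme.IdealSheafData.inclusion le_sup_right
  let a' : I.subscheme ⟶ K.subscheme := Scheme.IdealSheafData.inclusion inf_le_left
  let b' : J.subscheme ⟶ K.subscheme := Scheme.IdealSheafData.inclusion inf_le_right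
  haveI : IsClosedImmersion i' := by
    haveI : IsClosedImmersion (i' ≫ I.subschemeι) := by
      rw [Scheme.IdealSheafData.inclusion_subschemeι]; infer_instance
    exact IsClosedImmersion.of_comp _ I.subschemeι
  haveI : IsClosedImmersion j' := by
    haveI : IsClosedImmersion (j' ≫ J.subschemeι) := by
      rw [Scheme.IdealSheafData.inclusion_subschemeι]; infer_instance
    exact IsClosedImmersion.of_comp _ J.subschemeι
  have hpo : IsPushout i' j' a' b' := Groth.Agent.S9383.result Z I J
  -- the intersection is discrete with separably closed residue fields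
  let ι := (I ⊔ J).subschemeι
  haveI : IsLocallyNoetherian (I ⊔ J).subscheme := LocallyOfFiniteType.isLocallyNoetherian ι
  have hclosed : ∀ d : (I ⊔ J).subscheme, IsClosed ({d} : Set (I ⊔ J).subscheme) := fun d => by
    have hmem : ι d ∈ ((I ⊔ J).support : Set Z) := by
      rw [← Scheme.IdealSheafData.range_subschemeι]; exact ⟨d, rfl⟩
    rw [Scheme.IdealSheafData.support_sup, Closeds.coe_inf, hI, hJ] at hmem
    have h := isClosed_singleton_of_mem hdim i.isClosedEmbedding.isClosed_range hmem.1 hmem.2
    have h2 := h.preimage ι.continuous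
    rwa [show ι ⁻¹' {ι d} = {d} from Set.ext fun x => ⟨fun hx => ι.isClosedEmbedding.injective hx, fun hx => congrArg ι hx⟩] at h2
  haveI : IsLocallyArtinian (I ⊔ J).subscheme := isLocallyArtinian_of_isClosed_points hclosed
  have hsep : ∀ d : (I ⊔ J).subscheme, IsSepClosed ((I ⊔ J).subscheme.residueField d) := fun d =>
    SkySumLib.isSepClosed_residueField (ι ≫ a) d (hclosed d)
  -- degrees
  obtain ⟨n, hn⟩ := exists_finrank_eq Y
  obtain ⟨V₀, hV₀⟩ := exists_constCover k n
  let U : FEt.Cat I.subscheme := (FEt.restrict r).obj Y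
  let V : FEt.Cat J.subscheme := (FEt.restrict (J.subschemeι ≫ a)).obj V₀
  obtain ⟨e⟩ := nonempty_iso_of_discrete hsep ((FEt.restrict i').obj U) ((FEt.restrict j').obj V) n
    (fun d => finrank_restrict i' U n (finrank_restrict r Y n hn) d)
    (fun d => finrank_restrict j' V n (finrank_restrict _ V₀ n hV₀) d)
  obtain ⟨T₀, ⟨eU⟩, -⟩ := Groth.Agent.S1186.result i' j' (fun y => by
    by_cases h : ∃ z, j' z = y
    · obtain ⟨z, hz⟩ := h
      obtain ⟨A, hA, hzA, -⟩ := exists_isAffineOpen_mem_and_subset (TopologicalSpace.Opens.mem_top (i' z))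
      refine ⟨A, hA, fun z' hz' => ?_⟩
      have := j'.isClosedEmbedding.injective (hz'.trans hz.symm)
      subst this
      exact hzA
    · exact ⟨⊥, isAffineOpen_bot _, fun z hz => absurd ⟨z, hz⟩ h⟩) a' b' hpo U V e
  let T : FEt.Cat Z := (FEt.restrict π).objPreimage T₀
  let eT : (FEt.restrict π).obj T ≅ T₀ := (FEt.restrict π).objObjPreimageIso T₀
  have hfac : r ≫ i = a' ≫ π := by rw [hr]; exact (Scheme.IdealSheafData.inclusion_subschemeι _).symm
  have e3 : (FEt.restrict r).obj ((FEt.restrict i).obj T) ≅ (FEt.restrict r).obj Y :=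
    ((MorphismProperty.Over.pullbackComp (P := FEt.prop.{u}) (Q := ⊤) r i).app T).symm ≪≫
      (MorphismProperty.Over.pullbackComp (P := FEt.prop.{u}) (Q := ⊤) a' π (r ≫ i) hfac).app T ≪≫
      (FEt.restrict a').mapIso eT ≪≫ eU
  exact ⟨T, ⟨(FEt.restrict r).preimageIso e3⟩⟩

end Groth.Agent.CurveExt
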