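import Mathlib

/-!
Points in the closure of the complement of a closed subset of a scheme of dimension at most one.
-/

set_option autoImplicit false
set_option linter.all false

universe u

open CategoryTheory AlgebraicGeometry TopologicalSpace

namespace Groth.Agent.CurveExt

theorem exists_generization_of_mem_closure {Z : Scheme.{u}} [IsLocallyNoetherian Z] {U : Set Z} (hU : IsOpen U) {d : Z}
    (hd : d ∈ closure U) : ∃ η ∈ U, η ⤳ d := by
  obtain ⟨A, hA, hdA, -⟩ := exists_isAffineOpen_mem_and_subset (TopologicalSpace.Opens.mem_top d)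
  haveI : IsAffine A.toScheme := hA
  haveI : IsLocallyNoetherian A.toScheme := inferInstance
  haveI : IsNoetherian A.toScheme := { }
  haveI : NoetherianSpace ↥A.toScheme := inferInstance
  let U' : Set ↥A.toScheme := A.ι ⁻¹' U
  have hd' : (⟨d, hdA⟩ : ↥A.toScheme) ∈ closure U' := by
    rw [show closure U' = A.ι ⁻¹' closure U from (A.ι.isOpenEmbedding.isOpenMap.preimage_closure_eq_closure_preimage A.ι.continuous U).symm]
    exact hd
  let S : Set (Set ↥A.toScheme) := {C | C ∈ irreducibleComponents ↥A.toScheme ∧ (C ∩ U').Nonempty}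
  have hS : S.Finite := (NoetherianSpace.finite_irreducibleComponents).subset fun C hC => hC.1
  have hsub : closure U' ⊆ ⋃ C ∈ S, C := by
    refine closure_minimal (fun x hx => ?_) (hS.isClosed_biUnion fun C hC => isClosed_of_mem_irreducibleComponents C hC.1)
    exact Set.mem_biUnion (show irreducibleComponent x ∈ S from
      ⟨irreducibleComponent_mem_irreducibleComponents x, x, mem_irreducibleComponent, hx⟩) mem_irreducibleComponent
  obtain ⟨C, ⟨hC, hne⟩, hdC⟩ := Set.mem_iUnion₂.1 (hsub hd')
  have hCi : IsIrreducible C := hC.1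
  have hCc : IsClosed C := isClosed_of_mem_irreducibleComponents C hC
  refine ⟨A.ι hCi.genericPoint, ?_, ?_⟩
  · exact hCi.isGenericPoint_genericPoint hCc |>.mem_open_set_iff (hU.preimage A.ι.continuous) |>.2 hne
  · exact ((hCi.isGenericPoint_genericPoint hCc).specializes hdC).map A.ι.continuous

theorem isClosed_singleton_of_mem {Z : Scheme.{u}} [IsLocallyNoetherian Z] (hdim : topologicalKrullDim Z ≤ 1)
    {C : Set Z} (hC : IsClosed C) {d : Z} (h1 : d ∈ C) (h2 : d ∈ closure Cᶜ) : IsClosed ({d} : Set Z) := by
  obtain ⟨η, hη, hηd⟩ := exists_generization_of_mem_closure hC.isOpen_compl h2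
  rw [← closure_eq_iff_isClosed]
  refine subset_antisymm (fun z hz => ?_) subset_closure
  by_contra hzd
  have hdz : d ⤳ z := specializes_iff_mem_closure.2 hz
  let c : Z → IrreducibleCloseds Z := fun x => ⟨closure {x}, isIrreducible_singleton.closure, isClosed_closure⟩
  have hlt : ∀ a b : Z, a ⤳ b → b ≠ a → c b < c a := fun a b hab hne => by
    refine lt_of_le_of_ne (fun x hx => specializes_iff_closure_subset.1 hab hx) fun h => hne ?_
    have h' : closure ({b} : Set Z) = closure {a} := congrArg (fun t : IrreducibleCloseds Z => (t : Set Z)) h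
    exact (inseparable_iff_closure_eq.2 h').eq
  have hzd' : z ≠ d := fun h => hzd h
  have hdη : d ≠ η := fun h => hη (h ▸ h1)
  let p : LTSeries (IrreducibleCloseds Z) :=
    ((RelSeries.singleton _ (c z)).snoc (c d) (hlt d z hdz hzd')).snoc (c η) (by
      rw [RelSeries.last_snoc]; exact hlt η d hηd hdη)
  have h := Order.LTSeries.length_le_krullDim p
  have : (p.length : WithBot ℕ∞) ≤ 1 := h.trans hdim
  have hp : p.length = 2 := rfl
  rw [hp] at this
  norm_num at this

theorem isLocallyArtinian_of_isClosed_points {D : Scheme.{u}} [IsLocallyNoetherian D]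
    (h : ∀ d : D, IsClosed ({d} : Set D)) : IsLocallyArtinian D where
  isArtinianRing_presheaf_obj U := by
    haveI : IsNoetherianRing Γ(D, U) := IsLocallyNoetherian.component_noetherian U
    rw [isArtinianRing_iff_isNoetherianRing_krullDimLE_zero]
    refine ⟨inferInstance, Ring.krullDimLE_zero_iff.2 fun p hp => ?_⟩
    let q : PrimeSpectrum Γ(D, U) := ⟨p, hp⟩
    refine (PrimeSpectrum.isClosed_singleton_iff_isMaximal q).1 ?_
    have := (h (U.2.fromSpec q)).preimage U.2.fromSpec.continuous
    have e : (U.2.fromSpec ⁻¹' {U.2.fromSpec q} : Set (PrimeSpectrum Γ(D, U))) = {q} := Set.ext fun x => ?_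
    · exact e ▸ this
    simp only [Set.mem_singleton_iff, Set.mem_preimage]
    exact ⟨fun hx => U.2.fromSpec.isOpenEmbedding.injective hx, fun hx => congrArg U.2.fromSpec hx⟩

end Groth.Agent.CurveExt
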